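import Cfsg.Agent.ThModel83.Cim
import Cfsg.Agent.ThH99.Spor
import Cfsg.Agent.ThCent69.Bound

/-!
The model maps injectively into the presented Thompson group and on into `GL(248, 3)`, so the rule
for passing `u` and the model for double coset certificates hold without hypotheses.
-/

set_option autoImplicit false
set_option maxRecDepth 100000

namespace CfsgLib.ThModel83

open Cfsg.Spor

theorem not_L_le_ker : ¬ Th34.L ≤ ThRep32.rep.ker := fun h =>
  ThRep32.rep_ne_one (Th34.eq_one_of_L ThRep32.rep h)

theorem L_ne_bot : Th34.L ≠ ⊥ := fun h => not_L_le_ker (h ▸ bot_le)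

theorem hom_injective (hb : BoundHyp) : Function.Injective (hom hb) := by
  haveI := hb.1
  haveI : Finite R := Finite.of_surjective rho.rangeRestrict rho.rangeRestrict_surjective
  have hR : Nat.card R ≤ 634023936 :=
    (Nat.card_le_card_of_surjective _ rho.rangeRestrict_surjective).trans hb.2
  have hsurj : Function.Surjective (hom hb).rangeRestrict := (hom hb).rangeRestrict_surjective
  have hc : Nat.card R = Nat.card (hom hb).range := by
    refine le_antisymm ?_ (Nat.card_le_card_of_surjective _ hsurj)
    rw [hom_range, ThH99.card_H L_ne_bot]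
    exact hR
  have hbij := (Nat.bijective_iff_surjective_and_card _).2 ⟨hsurj, hc⟩
  exact fun x y h => hbij.1 (Subtype.ext h)

theorem rep_hom_injective (hb : BoundHyp) :
    Function.Injective (ThRep32.rep.comp (hom hb)) := by
  have hN : (ThRep32.rep.comp Th34.H.subtype).ker = ⊥ := by
    refine (ThH99.normal_H L_ne_bot _ inferInstance).resolve_right fun h => not_L_le_ker ?_
    intro x hx
    exact h (show (⟨x, Th34.L_le_H hx⟩ : Th34.H) ∈ Th34.L.subgroupOf Th34.H from hx)
  have hinj := (MonoidHom.ker_eq_bot_iff _).1 hN
  intro x y hxy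
  have hx : hom hb x ∈ Th34.H := hom_range hb ▸ MonoidHom.mem_range.2 ⟨x, rfl⟩
  have hy : hom hb y ∈ Th34.H := hom_range hb ▸ MonoidHom.mem_range.2 ⟨y, rfl⟩
  exact hom_injective hb (congrArg Subtype.val (hinj (a₁ := ⟨_, hx⟩) (a₂ := ⟨_, hy⟩) hxy))

/-- the rule for passing `u` is right -/
theorem cim_spec' : CimSpec ThCent69.boundHyp cim := cim_spec (rep_hom_injective _)

/-- the model for double coset certificates -/
noncomputable def model' : DCert22.Model (code cim) Cfsg.Spor.Th R :=
  model ThCent69.boundHyp cim cim_spec'

/-- the conjugate of `d c d` by `u` as a word in `H` -/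
theorem cim_dcd : Th34.g .d * Th34.g .c * Th34.g .d * Th34.g .u =
    Th34.g .u * (dcdWord.map gv).prod := by
  have h := dcd_pair (rep_hom_injective ThCent69.boundHyp)
  rwa [hom_word, map_mul, map_mul, hom_genR, hom_genR] at h

end CfsgLib.ThModel83
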