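import Cfsg.Agent.ThModel83.ChainData
import Mathlib.GroupTheory.PresentedGroup

/-!
The group `⟨a, b, c, d, e, s, t⟩` presented by the first three groups of relators of the Thompson
group, its representation of degree 26 over two elements and the order of the image.
-/

set_option autoImplicit false
set_option maxRecDepth 100000

namespace CfsgLib.ThModel83

/-- the relators of groups (1), (2), (3), evaluated at seven elements -/
def rel7 {X : Type*} [Group X] (a b c d e s t : X) : List X :=
  [ a ^ 2,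
    b ^ 2,
    c ^ 2,
    d ^ 2,
    e ^ 2,
    (a * b) ^ 3,
    (a * e) ^ 2,
    (b * c) ^ 3,
    (b * d) ^ 2,
    (b * e) ^ 2,
    a * (((c * d) ^ 4)⁻¹),
    (c * e) ^ 2,
    (d * e) ^ 3,
    (b * c * d * e) ^ 8,
    s ^ 7,
    s⁻¹ * a⁻¹ * s * a,
    s⁻¹ * b⁻¹ * s * b,
    s⁻¹ * c⁻¹ * s * c,
    (s * d) ^ 2,
    (e⁻¹ * s⁻¹ * e * s) * (((s ^ 3)⁻¹ * e * (s ^ 3))⁻¹),
    t ^ 3,
    t⁻¹ * a⁻¹ * t * a,
    t⁻¹ * b⁻¹ * t * b,
    t⁻¹ * c⁻¹ * t * c,
    t⁻¹ * d⁻¹ * t * d,
    t⁻¹ * e⁻¹ * t * e,
    (t⁻¹ * s * t) * ((s ^ 2)⁻¹) ]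

theorem rel7_map {X Y : Type*} [Group X] [Group Y] (f : X →* Y) (a b c d e s t : X) :
    (rel7 a b c d e s t).map f = rel7 (f a) (f b) (f c) (f d) (f e) (f s) (f t) := by
  simp only [rel7, List.map_cons, List.map_nil, map_mul, map_pow, map_inv]

/-- seven elements satisfy the relators -/
def Rel7 {X : Type*} [Group X] (v : Fin 7 → X) : Prop :=
  ∀ r ∈ rel7 (v 0) (v 1) (v 2) (v 3) (v 4) (v 5) (v 6), r = 1

/-- the relators as words -/
def hRels : Set (FreeGroup (Fin 7)) :=
  {r | r ∈ rel7 (FreeGroup.of 0) (FreeGroup.of 1) (FreeGroup.of 2) (FreeGroup.of 3)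
    (FreeGroup.of 4) (FreeGroup.of 5) (FreeGroup.of 6)}

/-- the presented group -/
abbrev Hp : Type := PresentedGroup hRels

theorem lift_rels {X : Type*} [Group X] (v : Fin 7 → X) (h : Rel7 v) :
    ∀ r ∈ hRels, FreeGroup.lift v r = 1 := by
  intro r hr
  have hm : FreeGroup.lift v r ∈ (rel7 (FreeGroup.of (0 : Fin 7)) (FreeGroup.of 1) (FreeGroup.of 2)
      (FreeGroup.of 3) (FreeGroup.of 4) (FreeGroup.of 5) (FreeGroup.of 6)).map (FreeGroup.lift v) :=
    List.mem_map_of_mem hr
  rw [rel7_map] at hm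
  simp only [FreeGroup.lift_apply_of] at hm
  exact h _ hm

/-- the map out of the presented group -/
def toX {X : Type*} [Group X] (v : Fin 7 → X) (h : Rel7 v) : Hp →* X :=
  PresentedGroup.toGroup (lift_rels v h)

theorem toX_of {X : Type*} [Group X] (v : Fin 7 → X) (h : Rel7 v) (i : Fin 7) :
    toX v h (PresentedGroup.of i) = v i :=
  PresentedGroup.toGroup.of (lift_rels v h)

theorem rel7_of : Rel7 (fun i : Fin 7 => (PresentedGroup.of i : Hp)) := by
  intro r hr
  have e := rel7_map (PresentedGroup.mk hRels) (FreeGroup.of 0) (FreeGroup.of 1) (FreeGroup.of 2)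
    (FreeGroup.of 3) (FreeGroup.of 4) (FreeGroup.of 5) (FreeGroup.of 6)
  have hr' : r ∈ rel7 (PresentedGroup.mk hRels (FreeGroup.of 0))
      (PresentedGroup.mk hRels (FreeGroup.of 1)) (PresentedGroup.mk hRels (FreeGroup.of 2))
      (PresentedGroup.mk hRels (FreeGroup.of 3)) (PresentedGroup.mk hRels (FreeGroup.of 4))
      (PresentedGroup.mk hRels (FreeGroup.of 5)) (PresentedGroup.mk hRels (FreeGroup.of 6)) := hr
  rw [← e, List.mem_map] at hr'
  obtain ⟨w, hw, rfl⟩ := hr'
  exact PresentedGroup.one_of_mem hw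

/-- the codes of the generators -/
def genCode : List ℕ := [Data.aC, Data.bC, Data.cC, Data.dC, Data.eC, Data.sC, Data.tC]

/-- a code is a well formed pair of mutually inverse matrices -/
noncomputable def unitOK (n : ℕ) : Bool :=
  Nat.blt (hi n) big && Nat.beq (mulP (lo n) (hi n)) oneP && Nat.beq (mulP (hi n) (lo n)) oneP

theorem genCode_ok : genCode.all unitOK = true := by decide +kernel

theorem lo_lt (n : ℕ) : lo n < 2 ^ 676 := by
  rw [← big_eq]; exact Nat.mod_lt _ (by rw [big_eq]; positivity)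

/-- the unit of a code -/
def unitOf (n : ℕ) (h : unitOK n = true) : Matˣ where
  val := ⟨lo n, lo_lt n⟩
  inv := ⟨hi n, by
    simp only [unitOK, Bool.and_eq_true] at h
    rw [← big_eq]
    exact Nat.blt_eq ▸ h.1.1⟩
  val_inv := Subtype.ext (by
    simp only [unitOK, Bool.and_eq_true] at h
    exact Nat.eq_of_beq_eq_true h.1.2)
  inv_val := Subtype.ext (by
    simp only [unitOK, Bool.and_eq_true] at h
    exact Nat.eq_of_beq_eq_true h.2)

theorem cenc_unitOf (n : ℕ) (h : unitOK n = true) : cenc (unitOf n h) = n := by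
  show lo n + big * hi n = n
  exact Nat.mod_add_div n big

/-- the seven matrices -/
noncomputable def genU (i : Fin 7) : Matˣ :=
  unitOf (genCode.get ⟨i.1, i.2⟩) (List.all_eq_true.1 genCode_ok _ (List.get_mem _ _))

theorem genU_check : ((rel7 (genU 0) (genU 1) (genU 2) (genU 3) (genU 4) (genU 5) (genU 6)).all
    fun x => Nat.beq (cenc x) cone) = true := by decide +kernel

theorem genU_rel : Rel7 genU := fun r hr =>
  cenc_inj ((Nat.eq_of_beq_eq_true (List.all_eq_true.1 genU_check r hr)).trans cenc_one.symm)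

/-- the representation -/
noncomputable def rho : Hp →* Matˣ := toX genU genU_rel

/-- its image -/
noncomputable def R : Subgroup Matˣ := rho.range

theorem gen_inR : ∀ g ∈ genCode, InR R g := by
  intro g hg
  obtain ⟨k, hk, rfl⟩ := List.getElem_of_mem hg
  exact ⟨genU ⟨k, hk⟩, ⟨PresentedGroup.of ⟨k, hk⟩, toX_of genU genU_rel _⟩, cenc_unitOf _ _⟩

/-- the generators of a level come from the previous one -/
noncomputable def srcOK (L : Lvl) : List (ℕ × ℕ × ℕ) → List ℕ → Bool
  | [], [] => true
  | (x, j, y) :: s, g :: gs =>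
    (match L.tbl.find x, L.gens[j]?, L.tbl.find y with
      | some ex, some gj, some ey => Nat.beq g (cmul (cmul ex.v gj) (cinv ey.v))
      | _, _, _ => false) && srcOK L s gs
  | _, _ => false

theorem srcOK_inR {L : Lvl} (hL : lvlOK L = true) (hg : ∀ g ∈ L.gens, InR R g) :
    ∀ (s : List (ℕ × ℕ × ℕ)) (gs : List ℕ), srcOK L s gs = true → ∀ g ∈ gs, InR R g
  | [], [], _, g, hgm => by simp at hgm
  | [], _ :: _, h, _, _ => by simp [srcOK] at h
  | _ :: _, [], h, _, _ => by simp [srcOK] at h
  | (x, j, y) :: s, g' :: gs, h, g, hgm => by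
    rw [srcOK, Bool.and_eq_true] at h
    rcases List.mem_cons.1 hgm with rfl | hgm
    · obtain ⟨h1, -⟩ := h
      split at h1
      · rename_i ex gj ey hx hj hy
        rw [Nat.eq_of_beq_eq_true h1]
        exact ((ent_inR hL hg ex (Tbl.find_mem _ _ _ hx)).mul
          (hg gj (List.mem_of_getElem? hj))).mul (ent_inR hL hg ey (Tbl.find_mem _ _ _ hy)).inv
      · simp at h1
    · exact srcOK_inR hL hg s gs h.2 g hgm

open Chain in
theorem lvl_checks : ([lvl0, lvl1, lvl2, lvl3, lvl4].all fun L => lvlOK L && keysOK L) = true := by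
  decide +kernel

open Chain in
theorem fix_checks : (fixOK [] lvl0 && fixOK [lvl0.b] lvl1 && fixOK [lvl1.b, lvl0.b] lvl2 &&
    fixOK [lvl2.b, lvl1.b, lvl0.b] lvl3 && fixOK [lvl3.b, lvl2.b, lvl1.b, lvl0.b] lvl4) = true := by
  decide +kernel

open Chain in
theorem src_checks : (srcOK lvl0 src1 lvl1.gens && srcOK lvl1 src2 lvl2.gens &&
    srcOK lvl2 src3 lvl3.gens && srcOK lvl3 src4 lvl4.gens) = true := by
  decide +kernel

open Chain in
theorem chain_ok : ChainOK R [] lvls := by
  have hl := List.all_eq_true.1 lvl_checks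
  simp only [Bool.and_eq_true] at hl
  have hf := fix_checks
  have hs := src_checks
  simp only [Bool.and_eq_true] at hf hs
  obtain ⟨⟨⟨⟨f0, f1⟩, f2⟩, f3⟩, f4⟩ := hf
  obtain ⟨⟨⟨s1, s2⟩, s3⟩, s4⟩ := hs
  have l0 := (hl lvl0 (by simp)).1
  have l1 := (hl lvl1 (by simp)).1
  have l2 := (hl lvl2 (by simp)).1
  have l3 := (hl lvl3 (by simp)).1
  have l4 := (hl lvl4 (by simp)).1
  have g0 : ∀ g ∈ lvl0.gens, InR R g := gen_inR
  have g1 := srcOK_inR l0 g0 _ _ s1
  have g2 := srcOK_inR l1 g1 _ _ s2
  have g3 := srcOK_inR l2 g2 _ _ s3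
  have g4 := srcOK_inR l3 g3 _ _ s4
  exact ⟨l0, f0, by decide, g0, l1, f1, by decide, g1, l2, f2, by decide, g2,
    l3, f3, by decide, g3, l4, f4, by decide, g4, trivial⟩

theorem chain_size : chainSize Chain.lvls = 634023936 := by decide +kernel

theorem card_R_ge [Finite R] : 634023936 ≤ Nat.card R := by
  have h := chain_card (R := R) Chain.lvls [] chain_ok fun L hL => by
    have := List.all_eq_true.1 lvl_checks L hL
    rw [Bool.and_eq_true] at this
    exact this.2
  rw [chain_size] at h
  exact h.trans (Nat.card_le_card_of_injective _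
    (Subgroup.inclusion_injective (inf_le_left (b := fixSub []))))

/-- membership test for codes -/
noncomputable def validCode (n : ℕ) : Bool := sift Chain.lvls n

theorem validCode_inR {n : ℕ} (h : validCode n = true) : InR R n := sift_inR chain_ok h

/-- the presented group has at most the order of the image -/
def BoundHyp : Prop := Finite Hp ∧ Nat.card Hp ≤ 634023936

theorem closure_of : Subgroup.closure (Set.range fun i : Fin 7 => (PresentedGroup.of i : Hp)) = ⊤ :=
  PresentedGroup.closure_range_of hRels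

/-- a bound for every group with seven such generators gives the bound for the presented group -/
theorem boundHyp_of (h : ∀ (X : Type) [Group X] (v : Fin 7 → X), Rel7 v →
    Finite (Subgroup.closure (Set.range v)) ∧
      Nat.card (Subgroup.closure (Set.range v)) ≤ 634023936) : BoundHyp := by
  obtain ⟨h1, h2⟩ := h Hp _ rel7_of
  rw [closure_of] at h1 h2
  haveI : Finite (⊤ : Subgroup Hp) := h1
  exact ⟨Finite.of_equiv _ Subgroup.topEquiv.toEquiv,
    le_trans (le_of_eq (Nat.card_congr Subgroup.topEquiv.toEquiv).symm) h2⟩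

theorem rho_injective (hb : BoundHyp) : Function.Injective rho := by
  haveI := hb.1
  haveI : Finite R := Finite.of_surjective rho.rangeRestrict rho.rangeRestrict_surjective
  have h : Nat.card Hp ≤ Nat.card R := hb.2.trans card_R_ge
  have hbij : Function.Bijective rho.rangeRestrict :=
    (Nat.bijective_iff_surjective_and_card _).2 ⟨rho.rangeRestrict_surjective,
      le_antisymm h (Nat.card_le_card_of_surjective _ rho.rangeRestrict_surjective)⟩
  exact fun x y hxy => hbij.1 (Subtype.ext hxy)

/-- the image maps to every group with seven elements satisfying the relators -/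
noncomputable def homOut (hb : BoundHyp) {X : Type*} [Group X] (v : Fin 7 → X) (h : Rel7 v) :
    R →* X :=
  (toX v h).comp (MonoidHom.ofInjective (rho_injective hb)).symm.toMonoidHom

theorem homOut_rho (hb : BoundHyp) {X : Type*} [Group X] (v : Fin 7 → X) (h : Rel7 v) (x : Hp) :
    homOut hb v h ⟨rho x, ⟨x, rfl⟩⟩ = toX v h x :=
  congrArg (toX v h) ((MonoidHom.ofInjective (rho_injective hb)).symm_apply_apply x)

end CfsgLib.ThModel83
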