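import Cfsg.Agent.ThModel83.Rep
import Cfsg.Agent.Th34.Basic
import Cfsg.Agent.DCosetCert22.Sound

/-!
The map from the packed model of `³D₄(2):3` to the presented Thompson group, and the coding needed
by double coset certificates.
-/

set_option autoImplicit false
set_option maxRecDepth 100000

namespace CfsgLib.ThModel83

open Cfsg.Spor

/-- the seven generators in the presented Thompson group -/
noncomputable def gv : Fin 7 → Cfsg.Spor.Th :=
  ![Th34.g .a, Th34.g .b, Th34.g .c, Th34.g .d, Th34.g .e, Th34.g .s, Th34.g .t]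

theorem gv_rel : Rel7 gv := by
  intro r hr
  change r ∈ rel7 (Th34.π Th.a) (Th34.π Th.b) (Th34.π Th.c) (Th34.π Th.d) (Th34.π Th.e)
    (Th34.π Th.s) (Th34.π Th.t) at hr
  rw [← rel7_map, List.mem_map] at hr
  obtain ⟨w, hw, rfl⟩ := hr
  refine Th34.rel (List.mem_of_mem_take (i := 27) ?_)
  exact hw

/-- the map from the model to the presented Thompson group -/
noncomputable def hom (hb : BoundHyp) : R →* Cfsg.Spor.Th := homOut hb gv gv_rel

/-- the image of a generator in the model -/
noncomputable def genR (i : Fin 7) : R := ⟨rho (PresentedGroup.of i), ⟨_, rfl⟩⟩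

theorem cenc_genR (i : Fin 7) : cenc (genR i).1 = genCode.get ⟨i.1, i.2⟩ := by
  show cenc (rho (PresentedGroup.of i)) = _
  rw [rho, toX_of]
  exact cenc_unitOf _ _

theorem hom_genR (hb : BoundHyp) (i : Fin 7) : hom hb (genR i) = gv i := by
  rw [hom, genR, homOut_rho, toX_of]

theorem hom_range (hb : BoundHyp) : (hom hb).range = Th34.H := by
  have h1 : (hom hb).range = (toX gv gv_rel).range := by
    ext y
    constructor
    · rintro ⟨⟨_, x, rfl⟩, rfl⟩; exact ⟨x, (homOut_rho hb gv gv_rel x).symm⟩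
    · rintro ⟨x, rfl⟩; exact ⟨⟨rho x, ⟨x, rfl⟩⟩, homOut_rho hb gv gv_rel x⟩
  rw [h1, ← Subgroup.map_top_of_surjective (PresentedGroup.mk hRels)
    (PresentedGroup.mk_surjective _) |> fun e => (MonoidHom.range_eq_map (toX gv gv_rel)).trans
      (congrArg (Subgroup.map (toX gv gv_rel)) e.symm) |> Eq.symm]
  rw [← FreeGroup.closure_range_of, MonoidHom.map_closure, MonoidHom.map_closure]
  show Subgroup.closure _ = Subgroup.map _ (Subgroup.closure _)
  rw [MonoidHom.map_closure]
  refine congrArg Subgroup.closure (Set.ext fun y => ?_)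
  simp only [← Set.range_comp, Set.image_insert_eq, Set.image_singleton, Set.mem_range,
    Set.mem_insert_iff, Set.mem_singleton_iff, Function.comp_apply]
  constructor
  · rintro ⟨i, rfl⟩
    rw [show toX gv gv_rel ((PresentedGroup.mk hRels) (FreeGroup.of i)) = gv i from
      toX_of gv gv_rel i]
    fin_cases i <;> simp [gv, Th34.g]
  · intro h
    rcases h with rfl | rfl | rfl | rfl | rfl | rfl | rfl
    · exact ⟨0, toX_of gv gv_rel 0⟩
    · exact ⟨1, toX_of gv gv_rel 1⟩
    · exact ⟨2, toX_of gv gv_rel 2⟩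
    · exact ⟨3, toX_of gv gv_rel 3⟩
    · exact ⟨4, toX_of gv gv_rel 4⟩
    · exact ⟨5, toX_of gv gv_rel 5⟩
    · exact ⟨6, toX_of gv gv_rel 6⟩

/-- the code of `u ^ 2 = a c` -/
noncomputable def uCode : ℕ := cmul Data.aC Data.cC

/-- the coded operations, given a rule `cim` for passing `u` -/
noncomputable def code (cim : ℕ → Option ℕ) : DCert22.Code where
  mul := cmul
  inv := cinv
  one := cone
  u := uCode
  valid := validCode
  cim := cim

/-- what a rule for passing `u` has to satisfy -/
def CimSpec (hb : BoundHyp) (cim : ℕ → Option ℕ) : Prop :=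
  ∀ c d, cim c = some d → ∃ x y : R, cenc x.1 = c ∧ cenc y.1 = d ∧
    hom hb x * Th34.g .u = Th34.g .u * hom hb y

theorem cenc_genR' (i : Fin 7) {n : ℕ} (h : genCode.get ⟨i.1, i.2⟩ = n) :
    cenc (genR i).1 = n := (cenc_genR i).trans h

/-- the model for double coset certificates in the presented Thompson group -/
noncomputable def model (hb : BoundHyp) (cim : ℕ → Option ℕ) (hcim : CimSpec hb cim) :
    DCert22.Model (code cim) Cfsg.Spor.Th R where
  enc x := cenc x.1
  hom := hom hb
  t := Th34.g .u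
  enc_inj x y h := Subtype.ext (cenc_inj h)
  enc_one := cenc_one
  enc_mul x y := cenc_mul x.1 y.1
  enc_inv x := cenc_inv x.1
  valid_spec n h := by
    obtain ⟨x, hx, e⟩ := validCode_inR h
    exact ⟨⟨x, hx⟩, e⟩
  u_spec := by
    refine ⟨genR 0 * genR 2, ?_, ?_⟩
    · show cenc ((genR 0).1 * (genR 2).1) = uCode
      rw [cenc_mul, cenc_genR' 0 (n := Data.aC) rfl, cenc_genR' 2 (n := Data.cC) rfl, uCode]
    · rw [map_mul, hom_genR, hom_genR]
      show Th34.g .u * Th34.g .u = Th34.π Th.a * Th34.π Th.c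
      have h := Th34.rel (r := Th.u ^ 2 * (Th.a * Th.c)⁻¹) (by simp [Th.extra])
      rw [map_mul, map_pow, map_inv, map_mul, mul_inv_eq_one, sq] at h
      exact h
  cim_spec := hcim

end CfsgLib.ThModel83
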