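import Cfsg.Agent.ThModel83.KCert.Upper
import Cfsg.Agent.CosetEnum.Present
import Cfsg.Agent.Th34.Basic

/-!
`u⁻¹ (d c d) u` lies in `⟨a, c, d, e, s, t⟩`, from the 120 cosets of that subgroup in
`⟨a, c, d, e, s, t, u⟩`.
-/

set_option autoImplicit false
set_option maxRecDepth 100000

namespace CfsgLib.ThModel83

open Cfsg.Spor CfsgLib.CosetEnum

/-- letters of the generators: `a c d e s t u`, and `b` after them -/
def kEnc : Th.Gen → ℕ
  | .a => 0 | .c => 2 | .d => 4 | .e => 6 | .s => 8 | .t => 10 | .u => 12 | .b => 14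

/-- inverse letters -/
def kIv (x : ℕ) : ℕ := x ^^^ 1

/-- values of the letters -/
noncomputable def kVal : ℕ → Cfsg.Spor.Th
  | 0 => Th34.g .a | 1 => (Th34.g .a)⁻¹ | 2 => Th34.g .c | 3 => (Th34.g .c)⁻¹
  | 4 => Th34.g .d | 5 => (Th34.g .d)⁻¹ | 6 => Th34.g .e | 7 => (Th34.g .e)⁻¹
  | 8 => Th34.g .s | 9 => (Th34.g .s)⁻¹ | 10 => Th34.g .t | 11 => (Th34.g .t)⁻¹
  | 12 => Th34.g .u | 13 => (Th34.g .u)⁻¹ | 14 => Th34.g .b | 15 => (Th34.g .b)⁻¹
  | _ => 1

theorem kVal_iv (x : ℕ) : kVal (kIv x) = (kVal x)⁻¹ := by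
  by_cases hx : x < 16
  · interval_cases x <;> first | rfl | exact (inv_inv _).symm
  · have h : ¬ kIv x < 16 := by
      intro h
      have h' : x ^^^ 1 ^^^ 1 < 2 ^ 4 := Nat.xor_lt_two_pow (show x ^^^ 1 < 2 ^ 4 from h) (by norm_num)
      rw [Nat.xor_assoc, Nat.xor_self, Nat.xor_zero] at h'
      omega
    have e : ∀ y, ¬ y < 16 → kVal y = 1 := by
      intro y hy
      match y with
      | 0 | 1 | 2 | 3 | 4 | 5 | 6 | 7 | 8 | 9 | 10 | 11 | 12 | 13 | 14 | 15 => omega
      | n + 16 => rfl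
    rw [e x hx, e _ h, inv_one]

/-- the relators without `b` -/
def kRelIdx : List ℕ := [0, 2, 3, 4, 6, 10, 11, 12, 14, 15, 17, 18, 19, 20, 21, 23, 24, 25, 26, 27, 28, 29, 30, 31, 34, 35, 36, 37, 38]

/-- their words -/
def kBase : List (List ℕ) := kRelIdx.map fun n => encWord kEnc kIv (Th.extra.getD n 1)

theorem kBase_eq_one : ∀ w ∈ kBase, gword kVal w = 1 := by
  intro w hw
  obtain ⟨n, -, rfl⟩ := List.mem_map.1 hw
  rw [← map_eq_gword kEnc kIv Th34.π kVal]
  · by_cases h : n < Th.extra.length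
    · rw [List.getD_eq_getElem _ _ h]; exact Th34.rel_getElem n h
    · rw [List.getD_eq_default _ _ (not_lt.1 h), map_one]
  · intro x; cases x <;> rfl
  · intro x; cases x <;> rfl

theorem kWords_check : wordsFrom kIv kBase (KCert.words.take 58) = true := by decide +kernel

theorem kWords_subs : (KCert.words.drop 58).all (fun w => w.all fun x => Nat.blt x 12) = true := by
  decide +kernel

/-- the walk of the word `d⁻¹ c⁻¹ d⁻¹` at the node of `u` stays there -/
theorem kTable : KCert.TF 13 = 1 ∧ KCert.TF (14 * 1 + 5) = 2 ∧ KCert.TF (14 * 2 + 3) = 2 ∧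
    KCert.TF (14 * 1 + 4) = 2 ∧ KCert.TF (14 * 2 + 5) = 1 := by
  decide +kernel

theorem u_conj_mem : (Th34.g .u)⁻¹ * (Th34.g .d * Th34.g .c * Th34.g .d) * Th34.g .u ∈ Th34.H := by
  obtain ⟨ι, h0, hstep, -⟩ := exists_cover KCert.facts KCert.n_pos KCert.node_zero KCert.rows
    Th34.H kVal kVal_iv
    (fun k w hk hlt => gword_of_wordsFrom kVal kIv kVal_iv kWords_check kBase_eq_one w
      (List.mem_of_getElem? (by rw [List.getElem?_take_of_lt (show k < 58 from hlt)]; exact hk)))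
    (fun k w hk => by
      by_cases hlt : k < 58
      · rw [gword_of_wordsFrom kVal kIv kVal_iv kWords_check kBase_eq_one w
          (List.mem_of_getElem? (by rw [List.getElem?_take_of_lt hlt]; exact hk))]
        exact one_mem _
      · refine gword_mem _ _ fun x hx => ?_
        have hd : (KCert.words.drop 58)[k - 58]? = some w := by
          rw [List.getElem?_drop, Nat.add_sub_cancel' (not_lt.1 hlt)]; exact hk
        have := List.all_eq_true.1 (List.all_eq_true.1 kWords_subs w (List.mem_of_getElem? hd)) x hx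
        have hx' : x < 12 := Nat.blt_eq ▸ this
        interval_cases x <;>
          first
          | exact Th34.g_mem_H (by decide)
          | exact inv_mem (Th34.g_mem_H (by decide)))
  obtain ⟨t1, t2, t3, t4, t5⟩ := kTable
  have st : ∀ (i x j : ℕ) (hi : i < KCert.cert.n) (hj : j < KCert.cert.n), x < 14 →
      KCert.TF (14 * i + x) = j → (kVal x)⁻¹ • ι ⟨i, hi⟩ = ι ⟨j, hj⟩ := by
    intro i x j hi hj hx h
    have hh := hstep ⟨i, hi⟩ x hx (lt_of_eq_of_lt h hj)
    rw [hh]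
    exact congrArg ι (Fin.ext h)
  have n1 : 1 < KCert.cert.n := by decide +kernel
  have n2 : 2 < KCert.cert.n := by decide +kernel
  have e1 : Th34.g .u • ((1 : Cfsg.Spor.Th) : Cfsg.Spor.Th ⧸ Th34.H) = ι ⟨1, n1⟩ := by
    rw [← h0, ← st 0 13 1 KCert.n_pos n1 (by norm_num) (by simpa using t1)]
    exact congrArg (· • _) (inv_inv _).symm
  have a1 := st 1 5 2 n1 n2 (by norm_num) t2
  have a2 := st 2 3 2 n2 n2 (by norm_num) t3
  have a5 := st 2 5 1 n2 n1 (by norm_num) t5
  simp only [kVal, inv_inv] at a1 a2 a5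
  have e2 : (Th34.g .d * Th34.g .c * Th34.g .d) • ι ⟨1, n1⟩ = ι ⟨1, n1⟩ := by
    rw [mul_smul, mul_smul, a1, a2, a5]
  rw [← e1, ← mul_smul, MulAction.Quotient.smul_coe, MulAction.Quotient.smul_coe,
    QuotientGroup.eq] at e2
  have h := Th34.H.inv_mem e2
  simpa [mul_assoc] using h

end CfsgLib.ThModel83
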