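import Cfsg.Agent.ThModel83.Model
import Cfsg.Agent.ThModel83.KMem
import Cfsg.Agent.ThModel83.DChainData
import Cfsg.Agent.ThRep32.Rep

/-!
The rule for passing `u`: pairs `(x, y)` with `x u = u y`, from a chain for the subgroup of order
36864 spanned by seven such pairs.
-/

set_option autoImplicit false
set_option maxRecDepth 100000

namespace CfsgLib.ThModel83

open Cfsg.Spor

/-- first component of a coded pair -/
def pfst (n : ℕ) : ℕ := n % (big * big)

/-- second component of a coded pair -/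
def psnd (n : ℕ) : ℕ := n / (big * big)

/-- a coded pair -/
def pmk (m n : ℕ) : ℕ := m + big * big * n

/-- product of coded pairs -/
noncomputable def pmul (m n : ℕ) : ℕ := pmk (cmul (pfst m) (pfst n)) (cmul (psnd m) (psnd n))

/-- the identity pair -/
def pone : ℕ := pmk cone cone

/-- inverse of a coded pair -/
def pinv (n : ℕ) : ℕ := pmk (cinv (pfst n)) (cinv (psnd n))

theorem cenc_lt (x : Matˣ) : cenc x < big * big := by
  have h1 : (x : Mat).1 < big := by rw [big_eq]; exact (x : Mat).2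
  have h2 : ((x⁻¹ : Matˣ) : Mat).1 < big := by rw [big_eq]; exact ((x⁻¹ : Matˣ) : Mat).2
  unfold cenc pair
  calc (x : Mat).1 + big * ((x⁻¹ : Matˣ) : Mat).1
      < big + big * ((x⁻¹ : Matˣ) : Mat).1 := Nat.add_lt_add_right h1 _
    _ = big * (((x⁻¹ : Matˣ) : Mat).1 + 1) := by rw [Nat.mul_succ, Nat.add_comm]
    _ ≤ big * big := Nat.mul_le_mul_left _ h2

theorem pfst_pmk (x : Matˣ) (n : ℕ) : pfst (pmk (cenc x) n) = cenc x := by
  rw [pfst, pmk, Nat.add_mul_mod_self_left, Nat.mod_eq_of_lt (cenc_lt x)]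

theorem psnd_pmk (x : Matˣ) (n : ℕ) : psnd (pmk (cenc x) n) = n := by
  have h : 0 < big * big := lt_of_le_of_lt (Nat.zero_le _) (cenc_lt x)
  rw [psnd, pmk, Nat.add_mul_div_left _ _ h, Nat.div_eq_of_lt (cenc_lt x), zero_add]

variable (hb : BoundHyp)

/-- a coded pair passes `u` -/
def PairP (n : ℕ) : Prop :=
  ∃ x y : R, n = pmk (cenc x.1) (cenc y.1) ∧ hom hb x * Th34.g .u = Th34.g .u * hom hb y

variable {hb}

theorem PairP.one : PairP hb pone :=
  ⟨1, 1, rfl, by rw [map_one, one_mul, mul_one]⟩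

theorem PairP.mul {m n : ℕ} : PairP hb m → PairP hb n → PairP hb (pmul m n) := by
  rintro ⟨x, y, rfl, h⟩ ⟨x', y', rfl, h'⟩
  refine ⟨x * x', y * y', ?_, ?_⟩
  · rw [pmul, pfst_pmk, pfst_pmk, psnd_pmk, psnd_pmk, Subgroup.coe_mul, Subgroup.coe_mul,
      cenc_mul, cenc_mul]
  · rw [map_mul, map_mul, mul_assoc, h', ← mul_assoc, h, mul_assoc]

theorem PairP.inv {m : ℕ} : PairP hb m → PairP hb (pinv m) := by
  rintro ⟨x, y, rfl, h⟩
  refine ⟨x⁻¹, y⁻¹, ?_, ?_⟩
  · rw [pinv, pfst_pmk, psnd_pmk, Subgroup.coe_inv, Subgroup.coe_inv, cenc_inv, cenc_inv]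
  · rw [map_inv, map_inv, inv_mul_eq_iff_eq_mul, ← mul_assoc, h, mul_inv_cancel_right]

/-- an entry is its parent times a generator -/
noncomputable def pentOK (L : Lvl) (e : Ent) : Bool :=
  match e.dep with
  | 0 => Nat.beq e.v pone
  | d + 1 =>
    match L.tbl.find e.pk, L.gens[e.gi]? with
    | some e', some g => Nat.beq e'.dep d && Nat.beq e.v (pmul e'.v g)
    | _, _ => false

/-- all entries of a level -/
noncomputable def plvlOK (L : Lvl) : Bool := L.tbl.ents.all (pentOK L)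

/-- the generators of a level come from the previous one -/
noncomputable def psrcOK (L : Lvl) : List (ℕ × ℕ × ℕ) → List ℕ → Bool
  | [], [] => true
  | (x, j, y) :: s, g :: gs =>
    (match L.tbl.find x, L.gens[j]?, L.tbl.find y with
      | some ex, some gj, some ey => Nat.beq g (pmul (pmul ex.v gj) (pinv ey.v))
      | _, _, _ => false) && psrcOK L s gs
  | _, _ => false

theorem pent_pair {L : Lvl} (hL : plvlOK L = true) (hg : ∀ g ∈ L.gens, PairP hb g) :
    ∀ e ∈ L.tbl.ents, PairP hb e.v := by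
  intro e he
  induction hn : e.dep using Nat.strong_induction_on generalizing e with
  | _ d ih =>
    have h := List.all_eq_true.1 hL e he
    rw [pentOK] at h
    split at h
    · rw [Nat.eq_of_beq_eq_true h]; exact PairP.one
    · rename_i d' hd
      split at h
      · rename_i e' g he' hgm
        rw [Bool.and_eq_true] at h
        rw [Nat.eq_of_beq_eq_true h.2]
        have hd' := Nat.eq_of_beq_eq_true h.1
        exact (ih e'.dep (by omega) e' (Tbl.find_mem _ _ _ he') rfl).mul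
          (hg g (List.mem_of_getElem? hgm))
      · simp at h

theorem psrc_pair {L : Lvl} (hL : plvlOK L = true) (hg : ∀ g ∈ L.gens, PairP hb g) :
    ∀ (s : List (ℕ × ℕ × ℕ)) (gs : List ℕ), psrcOK L s gs = true → ∀ g ∈ gs, PairP hb g
  | [], [], _, g, hgm => by simp at hgm
  | [], _ :: _, h, _, _ => by simp [psrcOK] at h
  | _ :: _, [], h, _, _ => by simp [psrcOK] at h
  | (x, j, y) :: s, g' :: gs, h, g, hgm => by
    rw [psrcOK, Bool.and_eq_true] at h
    rcases List.mem_cons.1 hgm with rfl | hgm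
    · obtain ⟨h1, -⟩ := h
      split at h1
      · rename_i ex gj ey hx hj hy
        rw [Nat.eq_of_beq_eq_true h1]
        exact ((pent_pair hL hg ex (Tbl.find_mem _ _ _ hx)).mul
          (hg gj (List.mem_of_getElem? hj))).mul (pent_pair hL hg ey (Tbl.find_mem _ _ _ hy)).inv
      · simp at h1
    · exact psrc_pair hL hg s gs h.2 g hgm

/-- sifting with pairs: `A` is the current matrix, `q` the pair found so far -/
noncomputable def psiftAux : List Lvl → ℕ → ℕ → Option ℕ
  | [], _, q => some q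
  | L :: Ls, A, q =>
    match L.tbl.find (vm L.b A) with
    | some e => psiftAux Ls (mulP A (hi (pfst e.v))) (pmul e.v q)
    | none => none

theorem psiftAux_pair : ∀ (Ls : List Lvl) (A q r : ℕ),
    (∀ L ∈ Ls, ∀ e ∈ L.tbl.ents, PairP hb e.v) → PairP hb q →
    psiftAux Ls A q = some r → PairP hb r
  | [], _, _, _, _, hq, h => by rw [psiftAux] at h; exact (Option.some.inj h) ▸ hq
  | L :: Ls, A, q, r, hok, hq, h => by
    rw [psiftAux] at h
    split at h
    · rename_i e he
      exact psiftAux_pair Ls _ _ r (fun M hM => hok M (List.mem_cons_of_mem _ hM))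
        ((hok L List.mem_cons_self e (Tbl.find_mem _ _ _ he)).mul hq) h
    · simp at h

/-- passing `u` -/
noncomputable def cim (c : ℕ) : Option ℕ :=
  match psiftAux DChain.lvls (lo c) pone with
  | some q => bif Nat.beq c (pfst q) then some (psnd q) else none
  | none => none

/-- the seven pairs as codes -/
noncomputable def pairCodes : List ℕ :=
  let y := cmul (cmul (cinv Data.bC) (cmul Data.aC Data.cC)) Data.bC
  let z := cmul (cmul (cmul (cmul Data.sC Data.sC) Data.eC) (cinv Data.sC)) (cinv Data.sC)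
  let w := [Data.bC, Data.aC, Data.cC, Data.bC, Data.dC, Data.cC, Data.dC, Data.eC, Data.bC,
    Data.aC, Data.cC, Data.bC, Data.dC, Data.cC, Data.dC, Data.bC, Data.aC, Data.cC,
    Data.bC].foldr cmul cone
  [pmk Data.aC Data.aC, pmk Data.cC Data.cC, pmk Data.eC Data.eC, pmk Data.tC (cinv Data.tC),
    pmk (cinv y) (cmul Data.eC (cinv y)), pmk z z,
    pmk (cmul (cmul Data.dC Data.cC) Data.dC) w]

theorem gens0_eq : DChain.gens0 = pairCodes := by decide +kernel

/-- the word of the image of `d c d` -/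
def dcdWord : List (Fin 7) :=
  [1, 0, 2, 1, 3, 2, 3, 4, 1, 0, 2, 1, 3, 2, 3, 1, 0, 2, 1]

theorem dcd_rep_check :
    (ThRep32.idOK ([10, 3, 2, 3, 9] ++ (dcdWord.map (·.1)).reverse) &&
      ThRep32.idOK (dcdWord.map (·.1) ++ (dcdWord.map (·.1)).reverse)) = true := by
  decide +kernel

theorem rep_letters {w : List ℕ} (h : ThRep32.idOK w = true) :
    ThRep32.rep (w.map ThRep32.letter).prod = 1 :=
  Units.ext (by rw [ThRep32.rep_prod, ThRep32.prod_one h, Units.val_one])

theorem cenc_word : ∀ l : List (Fin 7),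
    cenc ((l.map genR).prod : R).1 = (l.map fun i => genCode.get ⟨i.1, i.2⟩).foldr cmul cone
  | [] => rfl
  | i :: l => by
    rw [List.map_cons, List.prod_cons, List.map_cons, List.foldr_cons, ← cenc_word l,
      Subgroup.coe_mul, cenc_mul, cenc_genR]

theorem hom_word (hb : BoundHyp) (l : List (Fin 7)) :
    hom hb (l.map genR).prod = (l.map gv).prod := by
  rw [map_list_prod, List.map_map]
  exact congrArg List.prod (List.map_congr_left fun i _ => hom_genR hb i)

theorem comm_of_comm {G : Type*} [Group G] {u x : G} (h : u⁻¹ * x⁻¹ * u * x = 1) :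
    x * u = u * x := by
  have h2 : u * x = x * u := by
    calc u * x = x * u * (u⁻¹ * x⁻¹ * u * x) := by group
      _ = x * u := by rw [h, mul_one]
  exact h2.symm

theorem dcd_pair (hinj : Function.Injective (ThRep32.rep.comp (hom hb))) :
    hom hb (genR 3 * genR 2 * genR 3) * Th34.g .u =
      Th34.g .u * hom hb (dcdWord.map genR).prod := by
  obtain ⟨z, hz⟩ : (Th34.g .u)⁻¹ * (Th34.g .d * Th34.g .c * Th34.g .d) * Th34.g .u ∈
      (hom hb).range := by rw [hom_range]; exact u_conj_mem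
  have hc := dcd_rep_check
  rw [Bool.and_eq_true] at hc
  have h1 := rep_letters hc.1
  have h2 := rep_letters hc.2
  rw [List.map_append, List.prod_append, map_mul] at h1 h2
  have e1 : ([10, 3, 2, 3, 9].map ThRep32.letter).prod = hom hb z := by
    rw [hz]
    show (Th34.g .u)⁻¹ * (Th34.g .d * (Th34.g .c * (Th34.g .d * (Th34.g .u * 1)))) = _
    group
  have e2 : ((dcdWord.map (·.1)).map ThRep32.letter).prod = hom hb (dcdWord.map genR).prod := by
    rw [hom_word]; rfl
  rw [e1] at h1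
  rw [e2] at h2
  have hzw : z = (dcdWord.map genR).prod := hinj (by
    rw [MonoidHom.comp_apply, MonoidHom.comp_apply]
    exact mul_right_cancel (h1.trans h2.symm))
  rw [← hzw, hz, map_mul, map_mul, hom_genR, hom_genR]
  show Th34.g .d * Th34.g .c * Th34.g .d * Th34.g .u = _
  group

theorem gens0_pair (hinj : Function.Injective (ThRep32.rep.comp (hom hb))) :
    ∀ g ∈ DChain.gens0, PairP hb g := by
  intro g hg
  rw [gens0_eq, pairCodes] at hg
  simp only [List.mem_cons, List.not_mem_nil, or_false] at hg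
  have ga : hom hb (genR 0) = Th34.g .a := hom_genR hb 0
  have gb : hom hb (genR 1) = Th34.g .b := hom_genR hb 1
  have gc : hom hb (genR 2) = Th34.g .c := hom_genR hb 2
  have ge : hom hb (genR 4) = Th34.g .e := hom_genR hb 4
  have gs : hom hb (genR 5) = Th34.g .s := hom_genR hb 5
  have gt : hom hb (genR 6) = Th34.g .t := hom_genR hb 6
  have ca : cenc (genR 0).1 = Data.aC := cenc_genR' 0 rfl
  have cb : cenc (genR 1).1 = Data.bC := cenc_genR' 1 rfl
  have cc : cenc (genR 2).1 = Data.cC := cenc_genR' 2 rfl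
  have cd : cenc (genR 3).1 = Data.dC := cenc_genR' 3 rfl
  have ce : cenc (genR 4).1 = Data.eC := cenc_genR' 4 rfl
  have cs : cenc (genR 5).1 = Data.sC := cenc_genR' 5 rfl
  have ct : cenc (genR 6).1 = Data.tC := cenc_genR' 6 rfl
  rcases hg with rfl | rfl | rfl | rfl | rfl | rfl | rfl
  · refine ⟨genR 0, genR 0, by rw [ca], ?_⟩
    rw [ga]
    have h := Th34.rel (r := Th.u⁻¹ * Th.a⁻¹ * Th.u * Th.a) (by simp [Th.extra])
    simp only [map_mul, map_inv] at h
    exact comm_of_comm h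
  · refine ⟨genR 2, genR 2, by rw [cc], ?_⟩
    rw [gc]
    have h := Th34.rel (r := Th.u⁻¹ * Th.c⁻¹ * Th.u * Th.c) (by simp [Th.extra])
    simp only [map_mul, map_inv] at h
    exact comm_of_comm h
  · refine ⟨genR 4, genR 4, by rw [ce], ?_⟩
    rw [ge]
    have h := Th34.rel (r := Th.u⁻¹ * Th.e⁻¹ * Th.u * Th.e) (by simp [Th.extra])
    simp only [map_mul, map_inv] at h
    exact comm_of_comm h
  · refine ⟨genR 6, (genR 6)⁻¹, by rw [ct, Subgroup.coe_inv, cenc_inv, ct], ?_⟩
    rw [map_inv, gt]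
    have h := Th34.rel (r := (Th.u⁻¹ * Th.t * Th.u) * ((Th.t⁻¹)⁻¹)) (by simp [Th.extra])
    simp only [map_mul, map_inv] at h
    rw [mul_inv_eq_one, mul_assoc, inv_mul_eq_iff_eq_mul] at h
    exact h
  · refine ⟨((genR 1)⁻¹ * (genR 0 * genR 2) * genR 1)⁻¹,
      genR 4 * ((genR 1)⁻¹ * (genR 0 * genR 2) * genR 1)⁻¹, ?_, ?_⟩
    · simp only [Subgroup.coe_mul, Subgroup.coe_inv, cenc_mul, cenc_inv, ca, cb, cc, ce]
    · simp only [map_mul, map_inv, ga, gb, gc, ge]
      have h := Th34.rel (r := (Th.u⁻¹ * (Th.b⁻¹ * (Th.a * Th.c) * Th.b)⁻¹ * Th.u *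
        (Th.b⁻¹ * (Th.a * Th.c) * Th.b)) * (Th.e⁻¹)) (by simp [Th.extra])
      simp only [map_mul, map_inv] at h
      rw [mul_inv_eq_one] at h
      show _ = Th34.g .u * (Th34.π Th.e * _)
      rw [← h]
      group
  · refine ⟨genR 5 * genR 5 * genR 4 * (genR 5)⁻¹ * (genR 5)⁻¹,
      genR 5 * genR 5 * genR 4 * (genR 5)⁻¹ * (genR 5)⁻¹, ?_, ?_⟩
    · simp only [Subgroup.coe_mul, Subgroup.coe_inv, cenc_mul, cenc_inv, ce, cs]
    · simp only [map_mul, map_inv, ge, gs]
      have h := Th34.rel (r := Th.e⁻¹ * ((Th.s ^ 2)⁻¹ * Th.u * (Th.s ^ 2))⁻¹ * Th.e *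
        ((Th.s ^ 2)⁻¹ * Th.u * (Th.s ^ 2))) (by simp [Th.extra])
      simp only [map_mul, map_inv, map_pow, pow_two] at h
      have h' := comm_of_comm h
      show _ * Th34.π Th.u = Th34.π Th.u * _
      calc _ = Th34.π Th.s * Th34.π Th.s * (Th34.π Th.e *
            ((Th34.π Th.s * Th34.π Th.s)⁻¹ * Th34.π Th.u * (Th34.π Th.s * Th34.π Th.s))) *
            (Th34.π Th.s * Th34.π Th.s)⁻¹ := by simp only [mul_inv_rev, mul_assoc, mul_inv_cancel, mul_inv_cancel_left, inv_mul_cancel_left, mul_one, one_mul]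
        _ = Th34.π Th.s * Th34.π Th.s * (((Th34.π Th.s * Th34.π Th.s)⁻¹ * Th34.π Th.u *
            (Th34.π Th.s * Th34.π Th.s)) * Th34.π Th.e) * (Th34.π Th.s * Th34.π Th.s)⁻¹ := by
          rw [← h']
        _ = _ := by simp only [mul_inv_rev, mul_assoc, mul_inv_cancel, mul_inv_cancel_left, inv_mul_cancel_left, mul_one, one_mul]
  · refine ⟨genR 3 * genR 2 * genR 3, (dcdWord.map genR).prod, ?_, dcd_pair hinj⟩
    rw [cenc_word]
    simp only [Subgroup.coe_mul, cenc_mul, cd, cc]
    rfl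

theorem dchain_checks : (plvlOK DChain.lvl0 && plvlOK DChain.lvl1 && plvlOK DChain.lvl2 &&
    plvlOK DChain.lvl3 && plvlOK DChain.lvl4 && psrcOK DChain.lvl0 DChain.src1 DChain.lvl1.gens &&
    psrcOK DChain.lvl1 DChain.src2 DChain.lvl2.gens &&
    psrcOK DChain.lvl2 DChain.src3 DChain.lvl3.gens &&
    psrcOK DChain.lvl3 DChain.src4 DChain.lvl4.gens) = true := by decide +kernel

theorem cim_spec (hinj : Function.Injective (ThRep32.rep.comp (hom hb))) : CimSpec hb cim := by
  have h := dchain_checks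
  simp only [Bool.and_eq_true] at h
  obtain ⟨⟨⟨⟨⟨⟨⟨⟨l0, l1⟩, l2⟩, l3⟩, l4⟩, s1⟩, s2⟩, s3⟩, s4⟩ := h
  have g0 : ∀ g ∈ DChain.lvl0.gens, PairP hb g := gens0_pair hinj
  have g1 := psrc_pair l0 g0 _ _ s1
  have g2 := psrc_pair l1 g1 _ _ s2
  have g3 := psrc_pair l2 g2 _ _ s3
  have g4 := psrc_pair l3 g3 _ _ s4
  have hall : ∀ L ∈ DChain.lvls, ∀ e ∈ L.tbl.ents, PairP hb e.v := by
    simp only [DChain.lvls, List.forall_mem_cons, List.not_mem_nil, IsEmpty.forall_iff,
      implies_true, and_true]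
    exact ⟨pent_pair l0 g0, pent_pair l1 g1, pent_pair l2 g2, pent_pair l3 g3, pent_pair l4 g4⟩
  intro c d hcd
  rw [cim] at hcd
  split at hcd
  · rename_i q hq
    obtain ⟨x, y, rfl, hxy⟩ := psiftAux_pair DChain.lvls _ _ _ hall PairP.one hq
    rw [pfst_pmk, psnd_pmk] at hcd
    cases hc : Nat.beq c (cenc x.1)
    · rw [hc] at hcd; simp at hcd
    · rw [hc] at hcd
      exact ⟨x, y, (Nat.eq_of_beq_eq_true hc).symm, Option.some.inj hcd, hxy⟩
  · simp at hcd

end CfsgLib.ThModel83
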