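/-!
The matrices of the seven generators `a b c d e s t` and of their inverses, packed.
-/

set_option autoImplicit false

namespace CfsgLib.ThModel83.Data

/-- the code of `a` -/
def aC : Nat :=
  0x8b69ad112001f212019c4018670800de402000000400000080000400000080000010000000581f0008d9c000800000400000071f000040000020000003fc0000200000100000008000004000000200000100000018b69ad112001f212019c4018670800de402000000400000080000400000080000010000000581f0008d9c000800000400000071f000040000020000003fc000020000010000000800000400000020000010000001

/-- the code of `b` -/
def bC : Nat :=
  0x8000001020000202000040080088604bc120007024001c04800700800000100000020000004800000840000180700020000005000000c1c0001000000280000067000008000001f000002000000400000040000028000001020000202000040080088604bc120007024001c04800700800000100000020000004800000840000180700020000005000000c1c0001000000280000067000008000001f00000200000040000004000002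

/-- the code of `c` -/
def cC : Nat :=
  0xcf7c2d0020000676742876ee7e000800112001f0055b7d1086df40000000856c04501b00000800080000000581f00100000001000001c7c00040000000800000ff000020000000400000080000100000020000001cf7c2d0020000676742876ee7e000800112001f0055b7d1086df40000000856c04501b00000800080000000581f00100000001000001c7c00040000000800000ff000020000000400000080000100000020000001

/-- the code of `d` -/
def dC : Nat :=
  0x800026d945b00100011406c00800de62da6b48c6d398001000800000203892c000200080000000010000400000020000002000000080000010000003fc00001000000200000400000080000004000000800000100800026d945b00100011406c00800de62da6b48c6d398001000800000203892c000200080000000010000400000020000002000000080000010000003fc000010000002000004000000800000040000008000001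

/-- the code of `e` -/
def eC : Nat :=
  0x80e24b11406c02515c815811e70800de40400000004000100000002000000080000800000856c00008d9c08000000400000000800000100000020000100000020000004000000100000020000004000000800000180e24b11406c02515c815811e70800de40400000004000100000002000000080000800000856c00008d9c080000004000000008000001000000200001000000200000040000001000000200000040000008000001

/-- the code of `s` -/
def sC : Nat :=
  0x80e24b00040009b6516c002000676742800100004000022da6b400020000200008000000000400200000000020000004011406c00100000008000000020000004000000800000100000020000004000000800000100200000856c00008000d410ef1dbb9f80800008c6d398000200004000203892c00004010000001000000100000008000000400000040000008000000200000040000008000001000000200000040000008000001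

/-- the code of `t` -/
def tC : Nat :=
  0x20000004000330c802b5960908000000010008b69ad00800000002002000000004000321e426000800231b4e680e24b000040000008000001000000200000040000008000001000000200000040000008000001004000321e4269b6516cd410ef080000231b4e601000022da6b480e24b000800080000010000000008000100000008000000040000008000001000000200000040000008000001000000200000040000008000001

end CfsgLib.ThModel83.Data
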