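import Mathlib

/-!
Square matrices of size 26 over two elements, packed into one number (row `i` occupies the bits
`26 i .. 26 i + 25`), with a multiplication that is cheap for the kernel.
-/

set_option autoImplicit false

namespace CfsgLib.ThModel83

/-- the number with a one at the lowest bit of each of the 26 rows -/
def ones : ℕ :=
  0x4000001000000400000100000040000010000004000001000000400000100000040000010000004000001000000400000100000040000010000004000001000000400000100000040000010000004000001

/-- row `i` -/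
def row (A i : ℕ) : ℕ := Nat.shiftRight A (Nat.mul 26 i) % 67108864

/-- product of packed matrices: columns of the left times rows of the right -/
noncomputable def mulP (A B : ℕ) : ℕ :=
  Nat.rec (motive := fun _ => ℕ) 0
    (fun k acc => Nat.xor acc (Nat.mul (Nat.land (Nat.shiftRight A k) ones) (row B k))) 26

/-- image of a vector -/
def vmAux (B v : ℕ) : ℕ → ℕ
  | 0 => 0
  | k + 1 => vmAux B v k ^^^ (bif v.testBit k then row B k else 0)

/-- image of a vector, cheap for the kernel -/
noncomputable def vm (v B : ℕ) : ℕ :=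
  Nat.rec (motive := fun _ => ℕ) 0
    (fun k acc => Nat.xor acc (Nat.mul (Nat.land (Nat.shiftRight v k) 1) (row B k))) 26

/-- the identity -/
def oneP : ℕ :=
  0x8000001000000200000040000008000001000000200000040000008000001000000200000040000008000001000000200000040000008000001000000200000040000008000001000000200000040000008000001

theorem row_lt (A i : ℕ) : row A i < 2 ^ 26 := Nat.mod_lt _ (by decide)

theorem row_eq (A i : ℕ) : row A i = A / 2 ^ (26 * i) % 2 ^ 26 := by
  show Nat.shiftRight A (Nat.mul 26 i) % 67108864 = _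
  rw [← Nat.shiftRight_eq_div_pow]
  rfl

theorem row_zero_left (i : ℕ) : row 0 i = 0 := by simp [row_eq]

theorem row_xor (A B i : ℕ) : row (A ^^^ B) i = row A i ^^^ row B i := by
  simp only [row_eq, Nat.xor_div_two_pow, Nat.xor_mod_two_pow]

theorem row_succ (A i : ℕ) : row A (i + 1) = row (A / 2 ^ 26) i := by
  simp only [row_eq, Nat.div_div_eq_div_mul]
  rw [← pow_add]
  congr 3
  ring

theorem row_ext : ∀ (n A B : ℕ), A < 2 ^ (26 * n) → B < 2 ^ (26 * n) →
    (∀ i < n, row A i = row B i) → A = B
  | 0, A, B, hA, hB, _ => by simp at hA hB; omega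
  | n + 1, A, B, hA, hB, h => by
    have h0 := h 0 (Nat.succ_pos n)
    simp only [row_eq, Nat.mul_zero, pow_zero, Nat.div_one] at h0
    have e : 26 * (n + 1) = 26 * n + 26 := by ring
    rw [e, pow_add] at hA hB
    have h1 : A / 2 ^ 26 = B / 2 ^ 26 := by
      refine row_ext n _ _ ?_ ?_ fun i hi => ?_
      · exact Nat.div_lt_of_lt_mul (by linarith)
      · exact Nat.div_lt_of_lt_mul (by linarith)
      · rw [← row_succ, ← row_succ]; exact h (i + 1) (by omega)
    rw [← Nat.div_add_mod A (2 ^ 26), ← Nat.div_add_mod B (2 ^ 26), h0, h1]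

/-- digits zero or one times a row -/
theorem row_mul_of_bits : ∀ (i x r : ℕ), r < 2 ^ 26 → (∀ j, row x j ≤ 1) →
    row (x * r) i = row x i * r
  | 0, x, r, hr, h => by
    have h0 := h 0
    simp only [row_eq, Nat.mul_zero, pow_zero, Nat.div_one] at h0 ⊢
    conv_lhs => rw [Nat.mul_mod, Nat.mod_eq_of_lt hr]
    refine Nat.mod_eq_of_lt ?_
    calc x % 2 ^ 26 * r ≤ 1 * r := Nat.mul_le_mul_right r h0
      _ < 2 ^ 26 := by omega
  | i + 1, x, r, hr, h => by
    have h0 := h 0
    simp only [row_eq, Nat.mul_zero, pow_zero, Nat.div_one] at h0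
    have e : x * r / 2 ^ 26 = x / 2 ^ 26 * r := by
      conv_lhs => rw [← Nat.div_add_mod x (2 ^ 26)]
      rw [add_mul, mul_assoc]
      have hlt : x % 2 ^ 26 * r < 2 ^ 26 :=
        lt_of_le_of_lt (Nat.mul_le_mul_right r h0) (by omega)
      rw [Nat.mul_add_div (by positivity), Nat.div_eq_of_lt hlt]
      exact Nat.add_zero _
    rw [row_succ, row_succ, e]
    exact row_mul_of_bits i _ r hr fun j => by rw [← row_succ]; exact h (j + 1)

theorem row_ones : ∀ i, row ones i = if i < 26 then 1 else 0 := by
  intro i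
  by_cases hi : i < 26
  · rw [if_pos hi]; revert i; decide +kernel
  · rw [if_neg hi, row_eq, Nat.div_eq_of_lt]
    · simp
    · exact lt_of_lt_of_le (show ones < 2 ^ (26 * 26) by decide +kernel)
        (Nat.pow_le_pow_right Nat.two_pos (by omega))

theorem row_and (A B i : ℕ) : row (A &&& B) i = row A i &&& row B i := by
  simp only [row_eq, Nat.and_div_two_pow, Nat.and_mod_two_pow]

theorem land_one (n : ℕ) : n &&& 1 = (n.testBit 0).toNat := by
  rw [Nat.and_one_is_mod, Nat.testBit_zero]
  rcases Nat.mod_two_eq_zero_or_one n with h | h <;> simp [h]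

theorem row_select {i k : ℕ} (A : ℕ) (hk : k < 26) :
    row ((A >>> k) &&& ones) i = if i < 26 then ((row A i).testBit k).toNat else 0 := by
  rw [row_and, row_ones]
  split
  · rw [land_one]
    congr 1
    rw [row_eq, row_eq, Nat.testBit_mod_two_pow, Nat.testBit_mod_two_pow]
    simp only [← Nat.shiftRight_eq_div_pow, Nat.testBit_shiftRight]
    simp only [show (0 : ℕ) < 26 by decide, hk, decide_true, Bool.true_and, Nat.add_zero]
    congr 1
    omega
  · simp

theorem vm_eq (v B : ℕ) : vm v B = vmAux B v 26 := by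
  unfold vm
  generalize (26 : ℕ) = n
  induction n with
  | zero => rfl
  | succ n ih =>
    show Nat.xor _ (Nat.mul (Nat.land (Nat.shiftRight v n) 1) (row B n)) = _
    rw [vmAux, ← ih]
    have e : Nat.land (Nat.shiftRight v n) 1 = (v.testBit n).toNat := by
      show (v >>> n) &&& 1 = _
      rw [land_one, Nat.testBit_shiftRight, Nat.add_zero]
    rw [e]
    show _ ^^^ (v.testBit n).toNat * row B n = _
    cases v.testBit n <;> simp

theorem row_mulP (A B : ℕ) {i : ℕ} (hi : i < 26) : row (mulP A B) i = vm (row A i) B := by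
  rw [vm_eq]
  unfold mulP
  have : ∀ n ≤ 26, row (Nat.rec (motive := fun _ => ℕ) 0
      (fun k acc => Nat.xor acc (Nat.mul (Nat.land (Nat.shiftRight A k) ones) (row B k))) n) i =
      vmAux B (row A i) n := by
    intro n hn
    induction n with
    | zero => simp [vmAux, row_zero_left]
    | succ n ih =>
      show row (_ ^^^ ((A >>> n) &&& ones) * row B n) i = _
      rw [row_xor, vmAux, ih (by omega), row_mul_of_bits i _ _ (row_lt B n) fun j => ?_,
        row_select A (by omega), if_pos hi]
      · cases (row A i).testBit n <;> simp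
      · rw [row_select A (by omega)]
        split
        · exact Bool.toNat_le _
        · exact Nat.zero_le _
  exact this 26 le_rfl

theorem mulP_lt (A B : ℕ) : mulP A B < 2 ^ 676 := by
  unfold mulP
  generalize (26 : ℕ) = n
  induction n with
  | zero => simp
  | succ n ih =>
    refine Nat.xor_lt_two_pow ih ?_
    show ((A >>> n) &&& ones) * row B n < _
    calc ((A >>> n) &&& ones) * row B n
        ≤ ones * (2 ^ 26 - 1) :=
          Nat.mul_le_mul Nat.and_le_right (Nat.le_sub_one_of_lt (row_lt B n))
      _ < 2 ^ 676 := by decide +kernel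

theorem vm_lt (v B : ℕ) : vm v B < 2 ^ 26 := by
  rw [vm_eq]
  suffices ∀ n, vmAux B v n < 2 ^ 26 from this 26
  intro n
  induction n with
  | zero => simp [vmAux]
  | succ n ih =>
    refine Nat.xor_lt_two_pow ih ?_
    cases v.testBit n
    · simp
    · exact row_lt B n

theorem vm_xor (v w B : ℕ) : vm (v ^^^ w) B = vm v B ^^^ vm w B := by
  simp only [vm_eq]
  generalize (26 : ℕ) = n
  induction n with
  | zero => simp [vmAux]
  | succ n ih =>
    simp only [vmAux, ih, Nat.testBit_xor]
    cases v.testBit n <;> cases w.testBit n <;>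
      simp [Nat.xor_assoc, Nat.xor_left_comm, Nat.xor_comm]

theorem vm_two_pow (B : ℕ) {i : ℕ} (hi : i < 26) : vm (2 ^ i) B = row B i := by
  rw [vm_eq]
  have : ∀ n, vmAux B (2 ^ i) n = if i < n then row B i else 0 := by
    intro n
    induction n with
    | zero => rfl
    | succ n ih =>
      rw [vmAux, ih, Nat.testBit_two_pow]
      rcases Nat.lt_trichotomy i n with h | h | h
      · simp [h, h.ne, Nat.lt_succ_of_lt h]
      · subst h; simp
      · simp [h.ne', not_lt.2 h.le, not_lt.2 (Nat.succ_le_of_lt h)]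
  rw [this, if_pos hi]

/-- additive maps agreeing on unit vectors agree -/
theorem eq_of_units (f g : ℕ → ℕ) (hf : ∀ a b, f (a ^^^ b) = f a ^^^ f b)
    (hg : ∀ a b, g (a ^^^ b) = g a ^^^ g b) :
    ∀ n, (∀ i < n, f (2 ^ i) = g (2 ^ i)) → ∀ v < 2 ^ n, f v = g v
  | 0, _, v, hv => by
    obtain rfl : v = 0 := by simpa using hv
    have h1 := hf 0 0; have h2 := hg 0 0
    simp only [Nat.xor_self] at h1 h2
    rw [h1, h2]
  | n + 1, h, v, hv => by
    have ih := eq_of_units f g hf hg n fun i hi => h i (by omega)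
    by_cases hlt : v < 2 ^ n
    · exact ih v hlt
    · have hw : v ^^^ 2 ^ n < 2 ^ n := by
        refine Nat.lt_pow_two_of_testBit _ fun i hi => ?_
        rw [Nat.testBit_xor]
        rcases eq_or_lt_of_le hi with rfl | hlt'
        · have : v.testBit n = true := by
            rw [Nat.testBit_eq_decide_div_mod_eq, decide_eq_true_eq]
            have : v / 2 ^ n = 1 :=
              Nat.div_eq_of_lt_le (by omega) (by rw [pow_succ] at hv; omega)
            rw [this]
          simp [this]
        · rw [Nat.testBit_eq_false_of_lt (lt_of_lt_of_le hv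
            (Nat.pow_le_pow_right Nat.two_pos (show n + 1 ≤ i from hlt')))]
          simp [ne_of_lt hlt']
      have e : v = v ^^^ 2 ^ n ^^^ 2 ^ n := by simp [Nat.xor_assoc]
      rw [e, hf, hg, ih _ hw, h n (by omega)]

theorem vm_mulP {v : ℕ} (A B : ℕ) (hv : v < 2 ^ 26) : vm v (mulP A B) = vm (vm v A) B :=
  eq_of_units (fun u => vm u (mulP A B)) (fun u => vm (vm u A) B)
    (fun a b => vm_xor a b _) (fun a b => by rw [vm_xor, vm_xor]) 26
    (fun i hi => by rw [vm_two_pow _ hi, vm_two_pow _ hi, row_mulP A B hi]) v hv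

theorem row_oneP : ∀ i < 26, row oneP i = 2 ^ i := by decide +kernel

theorem oneP_lt : oneP < 2 ^ 676 := by decide +kernel

theorem vm_oneP {v : ℕ} (hv : v < 2 ^ 26) : vm v oneP = v :=
  eq_of_units (fun u => vm u oneP) id (fun a b => vm_xor a b _) (fun _ _ => rfl) 26
    (fun i hi => by rw [vm_two_pow _ hi, row_oneP i hi]; rfl) v hv

/-- packed matrices -/
def Mat : Type := {A : ℕ // A < 2 ^ 676}

noncomputable instance : Monoid Mat where
  mul A B := ⟨mulP A.1 B.1, mulP_lt _ _⟩
  one := ⟨oneP, oneP_lt⟩
  mul_assoc A B C := Subtype.ext <| row_ext 26 _ _ (mulP_lt _ _) (mulP_lt _ _) fun i hi => by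
    show row (mulP (mulP A.1 B.1) C.1) i = row (mulP A.1 (mulP B.1 C.1)) i
    rw [row_mulP _ _ hi, row_mulP _ _ hi, row_mulP _ _ hi, vm_mulP _ _ (row_lt _ _)]
  one_mul A := Subtype.ext <| row_ext 26 _ _ (mulP_lt _ _) A.2 fun i hi => by
    show row (mulP oneP A.1) i = _
    rw [row_mulP _ _ hi, row_oneP i hi, vm_two_pow _ hi]
  mul_one A := Subtype.ext <| row_ext 26 _ _ (mulP_lt _ _) A.2 fun i hi => by
    show row (mulP A.1 oneP) i = _
    rw [row_mulP _ _ hi, vm_oneP (row_lt _ _)]

theorem coe_mul (A B : Mat) : (A * B).1 = mulP A.1 B.1 := rfl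

theorem coe_one : (1 : Mat).1 = oneP := rfl

/-- `2 ^ 676`, evaluated -/
def big : ℕ :=
  0x10000000000000000000000000000000000000000000000000000000000000000000000000000000000000000000000000000000000000000000000000000000000000000000000000000000000000000000000000

/-- the matrix of a code -/
def lo (n : ℕ) : ℕ := n % big

/-- the inverse matrix of a code -/
def hi (n : ℕ) : ℕ := n / big

/-- pairs as codes -/
def pair (A B : ℕ) : ℕ := A + big * B

theorem big_eq : big = 2 ^ 676 := by decide +kernel

theorem lo_pair {A B : ℕ} (hA : A < 2 ^ 676) : lo (pair A B) = A := by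
  rw [lo, pair, Nat.add_mul_mod_self_left, Nat.mod_eq_of_lt (by rwa [big_eq])]

theorem hi_pair {A B : ℕ} (hA : A < 2 ^ 676) : hi (pair A B) = B := by
  have h : 0 < big := by rw [big_eq]; positivity
  rw [hi, pair, Nat.add_mul_div_left _ _ h, Nat.div_eq_of_lt (by rwa [big_eq]), zero_add]

/-- product of codes -/
noncomputable def cmul (m n : ℕ) : ℕ := pair (mulP (lo m) (lo n)) (mulP (hi n) (hi m))

/-- inverse of a code -/
def cinv (n : ℕ) : ℕ := pair (hi n) (lo n)

/-- code of the identity -/
def cone : ℕ := pair oneP oneP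

/-- the code of an invertible matrix -/
noncomputable def cenc (x : Matˣ) : ℕ := pair (x : Mat).1 ((x⁻¹ : Matˣ) : Mat).1

theorem cenc_inj : Function.Injective cenc := by
  intro x y h
  refine Units.ext (Subtype.ext ?_)
  have := congrArg lo h
  rwa [cenc, cenc, lo_pair (x : Mat).2, lo_pair (y : Mat).2] at this

theorem cenc_one : cenc 1 = cone := rfl

theorem cenc_mul (x y : Matˣ) : cenc (x * y) = cmul (cenc x) (cenc y) := by
  rw [cmul]
  simp only [cenc, lo_pair (x : Mat).2, lo_pair (y : Mat).2, hi_pair (x : Mat).2,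
    hi_pair (y : Mat).2]
  rw [Units.val_mul, mul_inv_rev, Units.val_mul, coe_mul, coe_mul]

theorem cenc_inv (x : Matˣ) : cenc x⁻¹ = cinv (cenc x) := by
  rw [cinv]
  simp only [cenc, lo_pair (x : Mat).2, hi_pair (x : Mat).2, inv_inv]

theorem vm_lo_cmul {v : ℕ} (hv : v < 2 ^ 26) (m n : ℕ) :
    vm v (lo (cmul m n)) = vm (vm v (lo m)) (lo n) := by
  rw [cmul, lo_pair (mulP_lt _ _), vm_mulP _ _ hv]

end CfsgLib.ThModel83
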