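import Cfsg.Agent.ThModel83.Packed

/-!
Sifting through a stabiliser chain of packed matrices: tables keyed by the image of a base vector,
soundness of the membership test and the lower bound for the order.
-/

set_option autoImplicit false

namespace CfsgLib.ThModel83

/-- one entry: key, code, key of the parent, generator, depth -/
structure Ent where
  /-- image of the base vector -/
  k : ℕ
  /-- code -/
  v : ℕ
  /-- key of the parent -/
  pk : ℕ
  /-- index of the generator -/
  gi : ℕ
  /-- depth -/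
  dep : ℕ

/-- search trees of entries -/
inductive Tbl where
  | leaf
  | node (e : Ent) (l r : Tbl)

/-- lookup by key -/
def Tbl.find : Tbl → ℕ → Option Ent
  | .leaf, _ => none
  | .node e l r, k =>
    bif Nat.beq k e.k then some e else bif Nat.blt k e.k then l.find k else r.find k

/-- all entries -/
def Tbl.ents : Tbl → List Ent
  | .leaf => []
  | .node e l r => l.ents ++ e :: r.ents

/-- one level: base vector, generators, table -/
structure Lvl where
  /-- base vector -/
  b : ℕ
  /-- generators -/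
  gens : List ℕ
  /-- table -/
  tbl : Tbl

/-- an entry is its parent times a generator -/
noncomputable def entOK (L : Lvl) (e : Ent) : Bool :=
  Nat.beq (vm L.b (lo e.v)) e.k &&
  (match L.tbl.find e.k with
    | some e' => Nat.beq e'.k e.k && Nat.beq e'.v e.v
    | none => false) &&
  match e.dep with
  | 0 => Nat.beq e.v cone
  | d + 1 =>
    match L.tbl.find e.pk, L.gens[e.gi]? with
    | some e', some g => Nat.beq e'.dep d && Nat.beq e.v (cmul e'.v g)
    | _, _ => false

/-- all entries of a level -/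
noncomputable def lvlOK (L : Lvl) : Bool := L.tbl.ents.all (entOK L)

/-- the generators of a level fix the earlier base vectors -/
noncomputable def fixOK (bs : List ℕ) (L : Lvl) : Bool :=
  bs.all fun b => Nat.blt b 67108864 && L.gens.all fun g => Nat.beq (vm b (lo g)) b

/-- sifting: `n` is the current matrix, `q` the product found so far -/
noncomputable def siftAux : List Lvl → ℕ → ℕ → Option ℕ
  | [], _, q => some q
  | L :: Ls, A, q =>
    match L.tbl.find (vm L.b A) with
    | some e => siftAux Ls (mulP A (hi e.v)) (cmul e.v q)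
    | none => none

/-- membership test -/
noncomputable def sift (Ls : List Lvl) (n : ℕ) : Bool :=
  match siftAux Ls (lo n) cone with
  | some q => Nat.beq n q
  | none => false

theorem Tbl.find_mem : ∀ (t : Tbl) (k : ℕ) (e : Ent), t.find k = some e → e ∈ t.ents
  | .leaf, _, _, h => by simp [Tbl.find] at h
  | .node e l r, k, e', h => by
    rw [Tbl.find] at h
    simp only [Tbl.ents, List.mem_append, List.mem_cons]
    cases h1 : Nat.beq k e.k
    · cases h2 : Nat.blt k e.k
      · rw [h1, h2] at h; exact Or.inr (Or.inr (find_mem r k e' h))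
      · rw [h1, h2] at h; exact Or.inl (find_mem l k e' h)
    · rw [h1] at h; exact Or.inr (Or.inl (Option.some.inj h).symm)

variable {R : Subgroup Matˣ}

/-- codes of elements of `R` -/
def InR (R : Subgroup Matˣ) (n : ℕ) : Prop := ∃ x ∈ R, cenc x = n

theorem InR.one : InR R cone := ⟨1, R.one_mem, rfl⟩

theorem InR.mul {m n : ℕ} : InR R m → InR R n → InR R (cmul m n) := by
  rintro ⟨x, hx, rfl⟩ ⟨y, hy, rfl⟩; exact ⟨x * y, R.mul_mem hx hy, cenc_mul x y⟩

theorem InR.inv {m : ℕ} : InR R m → InR R (cinv m) := by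
  rintro ⟨x, hx, rfl⟩; exact ⟨x⁻¹, R.inv_mem hx, cenc_inv x⟩

theorem ent_facts {L : Lvl} (hL : lvlOK L = true) {e : Ent} (he : e ∈ L.tbl.ents) :
    vm L.b (lo e.v) = e.k ∧ (∃ e', L.tbl.find e.k = some e' ∧ e'.k = e.k ∧ e'.v = e.v) ∧
      ((e.dep = 0 ∧ e.v = cone) ∨ ∃ e' g, e' ∈ L.tbl.ents ∧ g ∈ L.gens ∧
        e.dep = e'.dep + 1 ∧ e.v = cmul e'.v g) := by
  have h := List.all_eq_true.1 hL e he
  simp only [entOK, Bool.and_eq_true] at h
  obtain ⟨⟨h1, h2⟩, h3⟩ := h
  refine ⟨Nat.eq_of_beq_eq_true h1, ?_, ?_⟩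
  · split at h2
    · rename_i e' he'
      rw [Bool.and_eq_true] at h2
      exact ⟨e', he', Nat.eq_of_beq_eq_true h2.1, Nat.eq_of_beq_eq_true h2.2⟩
    · simp at h2
  · split at h3
    · rename_i hd; exact Or.inl ⟨hd, Nat.eq_of_beq_eq_true h3⟩
    · rename_i d hd
      split at h3
      · rename_i e' g he' hg
        rw [Bool.and_eq_true] at h3
        exact Or.inr ⟨e', g, Tbl.find_mem _ _ _ he', List.mem_of_getElem? hg,
          by rw [hd, Nat.eq_of_beq_eq_true h3.1], Nat.eq_of_beq_eq_true h3.2⟩
      · simp at h3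

theorem ent_inR {L : Lvl} (hL : lvlOK L = true) {S : Subgroup Matˣ}
    (hg : ∀ g ∈ L.gens, InR S g) : ∀ e ∈ L.tbl.ents, InR S e.v := by
  intro e he
  induction hn : e.dep using Nat.strong_induction_on generalizing e with
  | _ d ih =>
    rcases (ent_facts hL he).2.2 with ⟨-, hv⟩ | ⟨e', g, he', hgm, hd, hv⟩
    · rw [hv]; exact InR.one
    · rw [hv]; exact (ih e'.dep (by omega) e' he' rfl).mul (hg g hgm)

/-- the subgroup fixing a list of vectors -/
def fixSub (bs : List ℕ) : Subgroup Matˣ where
  carrier := {x | ∀ b ∈ bs, b < 2 ^ 26 → vm b (x : Mat).1 = b}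
  one_mem' b _ hb := by rw [Units.val_one, coe_one]; exact vm_oneP hb
  mul_mem' {x y} hx hy b hb hlt := by
    rw [Units.val_mul, coe_mul, vm_mulP _ _ hlt, hx b hb hlt, hy b hb hlt]
  inv_mem' {x} hx b hb hlt := by
    conv_lhs => rw [← hx b hb hlt]
    rw [← vm_mulP _ _ hlt, ← coe_mul, Units.mul_inv, coe_one, vm_oneP hlt]

theorem lo_cenc (x : Matˣ) : lo (cenc x) = (x : Mat).1 := lo_pair (x : Mat).2

theorem hi_cenc (x : Matˣ) : hi (cenc x) = ((x⁻¹ : Matˣ) : Mat).1 := hi_pair (x : Mat).2

theorem fix_gens {bs : List ℕ} {L : Lvl} (hf : fixOK bs L = true) {g : ℕ} (hg : g ∈ L.gens)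
    {x : Matˣ} (hx : cenc x = g) : x ∈ fixSub bs := by
  intro b hb _
  have h := List.all_eq_true.1 hf b hb
  rw [Bool.and_eq_true] at h
  have := Nat.eq_of_beq_eq_true (List.all_eq_true.1 h.2 g hg)
  rwa [← hx, lo_cenc] at this

/-- a chain is correct over `R` -/
def ChainOK (R : Subgroup Matˣ) : List ℕ → List Lvl → Prop
  | _, [] => True
  | bs, L :: Ls => lvlOK L = true ∧ fixOK bs L = true ∧ L.b < 2 ^ 26 ∧
      (∀ g ∈ L.gens, InR R g) ∧ ChainOK R (L.b :: bs) Ls

theorem siftAux_inR : ∀ (Ls : List Lvl) (bs : List ℕ) (A q r : ℕ), ChainOK R bs Ls → InR R q →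
    siftAux Ls A q = some r → InR R r
  | [], _, _, _, _, _, hq, h => by rw [siftAux] at h; exact (Option.some.inj h) ▸ hq
  | L :: Ls, bs, A, q, r, hok, hq, h => by
    rw [siftAux] at h
    obtain ⟨h1, -, -, h4, h5⟩ := hok
    split at h
    · rename_i e he
      exact siftAux_inR Ls _ _ _ r h5
        ((ent_inR h1 h4 e (Tbl.find_mem _ _ _ he)).mul hq) h
    · simp at h

theorem sift_inR {Ls : List Lvl} (hok : ChainOK R [] Ls) {n : ℕ} (h : sift Ls n = true) :
    InR R n := by
  rw [sift] at h
  split at h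
  · rename_i q hq
    rw [Nat.eq_of_beq_eq_true h]
    exact siftAux_inR Ls [] _ _ _ hok InR.one hq
  · simp at h

/-- the product of the table sizes -/
def chainSize : List Lvl → ℕ
  | [] => 1
  | L :: Ls => L.tbl.ents.length * chainSize Ls

/-- the keys are increasing -/
def keysOK (L : Lvl) : Bool :=
  (L.tbl.ents.zip L.tbl.ents.tail).all fun p => Nat.blt p.1.k p.2.k

theorem keys_nodup {L : Lvl} (h : keysOK L = true) : (L.tbl.ents.map (·.k)).Nodup := by
  revert h
  rw [keysOK]
  generalize L.tbl.ents = l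
  intro h
  have : (l.map (·.k)).IsChain (· < ·) := by
    induction l with
    | nil => simp
    | cons a l ih =>
      cases l with
      | nil => simp
      | cons b l =>
        simp only [List.tail_cons, List.zip_cons_cons, List.all_cons, Bool.and_eq_true] at h
        simp only [List.map_cons, List.isChain_cons_cons]
        exact ⟨Nat.blt_eq ▸ h.1, ih h.2⟩
  exact (List.isChain_iff_pairwise.1 this).imp fun h => h.ne

theorem chain_card [Finite R] : ∀ (Ls : List Lvl) (bs : List ℕ), ChainOK R bs Ls →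
    (∀ L ∈ Ls, keysOK L = true) → chainSize Ls ≤ Nat.card ↥(R ⊓ fixSub bs)
  | [], bs, _, _ => by
    haveI : Finite ↥(R ⊓ fixSub bs) :=
      Finite.of_injective (Subgroup.inclusion inf_le_left) (Subgroup.inclusion_injective _)
    exact Nat.card_pos
  | L :: Ls, bs, ⟨h1, h2, h3, h4, h5⟩, hk => by
    have ih := chain_card Ls (L.b :: bs) h5 fun M hM => hk M (List.mem_cons_of_mem _ hM)
    haveI : Finite ↥(R ⊓ fixSub bs) :=
      Finite.of_injective (Subgroup.inclusion inf_le_left) (Subgroup.inclusion_injective _)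
    have hnd := keys_nodup (hk L List.mem_cons_self)
    have hmem : ∀ i : Fin L.tbl.ents.length,
        ∃ x, x ∈ R ⊓ fixSub bs ∧ cenc x = (L.tbl.ents.get i).v := fun i => by
      refine ent_inR h1 (S := R ⊓ fixSub bs) (fun g hg => ?_) _ (List.get_mem _ i)
      obtain ⟨x, hx, rfl⟩ := h4 g hg
      exact ⟨x, ⟨hx, fix_gens h2 hg rfl⟩, rfl⟩
    choose t ht htv using hmem
    have hle : R ⊓ fixSub (L.b :: bs) ≤ R ⊓ fixSub bs :=
      inf_le_inf_left _ fun x hx b hb => hx b (List.mem_cons_of_mem _ hb)
    let f : ↥(R ⊓ fixSub (L.b :: bs)) × Fin L.tbl.ents.length → ↥(R ⊓ fixSub bs) :=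
      fun p => ⟨p.1.1 * t p.2, mul_mem (hle p.1.2) (ht p.2)⟩
    have hf : Function.Injective f := by
      rintro ⟨x, i⟩ ⟨y, j⟩ h
      have h' : x.1 * t i = y.1 * t j := congrArg Subtype.val h
      have e : ∀ (z : ↥(R ⊓ fixSub (L.b :: bs))) (k : Fin L.tbl.ents.length),
          vm L.b ((z.1 * t k : Matˣ) : Mat).1 = (L.tbl.ents.get k).k := fun z k => by
        rw [Units.val_mul, coe_mul, vm_mulP _ _ h3, z.2.2 L.b List.mem_cons_self h3,
          ← lo_cenc, htv, (ent_facts h1 (List.get_mem _ k)).1]
      have hij : i = j := by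
        have := (e x i).symm.trans ((congrArg (fun u : Matˣ => vm L.b (u : Mat).1) h').trans (e y j))
        have hi : i.1 < (L.tbl.ents.map (·.k)).length := by simp
        have hj : j.1 < (L.tbl.ents.map (·.k)).length := by simp
        exact Fin.ext ((hnd.getElem_inj_iff (hi := hi) (hj := hj)).1 (by simpa using this))
      subst hij
      exact Prod.ext (Subtype.ext (mul_right_cancel h')) rfl
    have hc := Nat.card_le_card_of_injective f hf
    rw [Nat.card_prod, Nat.card_eq_fintype_card (α := Fin _), Fintype.card_fin] at hc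
    rw [chainSize, mul_comm]
    exact le_trans (Nat.mul_le_mul_right _ ih) hc

end CfsgLib.ThModel83
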